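import Cfsg.Agent.Lib.CharApps.SLTwoDegrees

/-!
# The character degrees of `PSL₂(q)` for `q ≡ 1 (mod 4)`

They are `1` and `q` once each, `q - 1`, and multiples of `(q + 1) / 2`.
-/

set_option autoImplicit false
set_option linter.style.haveILetI false
set_option linter.unusedSectionVars false

namespace CfsgLib.CharsMore.DegreesPSL

open Cfsg CfsgLib CfsgLib.CharsMore CfsgLib.CharsMore.TwoByTwo CfsgLib.SLTwoDegrees
open scoped ComplexConjugate

universe u

variable {F : Type u} [Field F] [Fintype F] [DecidableEq F]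

local notation "SL₂" => Matrix.SpecialLinearGroup (Fin 2) F

variable (hodd : Odd (Fintype.card F))

open _root_.Classical in
include hodd in
/-- No cuspidal half is trivial on the centre. -/
theorem deg_of_trivial (h5 : 5 < Fintype.card F) (h4 : Fintype.card F % 4 = 1)
    (χ : IrrCharacter SL₂) (hc : χ ∈ cSetSL (F := F))
    (hχ : (χ : SL₂ → ℂ) negOne = (χ : SL₂ → ℂ) 1) :
    charDegree (χ : SL₂ → ℂ) = Fintype.card F - 1 := by
  letI := Chars.irrFintype SL₂
  set P : IrrCharacter SL₂ → Prop := fun χ => (χ : SL₂ → ℂ) negOne = (χ : SL₂ → ℂ) 1 with hP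
  have hone : ∀ g : SL₂, g * negOne ≠ 1 →
      2 * ∑ χ : IrrCharacter SL₂, (if P χ then (χ : SL₂ → ℂ) 1 * (χ : SL₂ → ℂ) g else 0) =
        if g = 1 then (Nat.card SL₂ : ℂ) else 0 := by
    intro g hg
    have h0 := Chars.sum_degree_mul (g * negOne)
    rw [if_neg hg] at h0
    rw [Finset.mul_sum, Finset.sum_congr rfl (g := fun χ : IrrCharacter SL₂ =>
      (χ : SL₂ → ℂ) 1 * (χ : SL₂ → ℂ) g + (χ : SL₂ → ℂ) 1 * (χ : SL₂ → ℂ) (g * negOne))
      (fun χ _ => ?_), Finset.sum_add_distrib, h0, add_zero, Chars.sum_degree_mul g]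
    obtain ⟨s, hs, hs'⟩ := exists_sign negOne_mem_center negOne_mul_self χ
    have h1 := hs' 1
    rw [one_mul] at h1
    rw [hs']
    rcases hs with rfl | rfl
    · rw [if_pos (by rw [hP]; simpa using h1)]
      ring
    · rw [if_neg]
      · ring
      · rw [hP]
        intro h
        exact CharApps.deg_ne_zero χ (by
          have h' : (χ : SL₂ → ℂ) negOne = (χ : SL₂ → ℂ) 1 := h
          linear_combination (h1 - h') / 2)
  have hne1 : (1 : SL₂) * negOne ≠ 1 := by
    rw [← uSL_zero]; simpa [uSL_zero] using uSL_mul_negOne_ne hodd 0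
  have hsq := hone 1 hne1
  rw [if_pos rfl] at hsq
  have hu : 2 * ∑ χ : IrrCharacter SL₂,
      (if P χ then (χ : SL₂ → ℂ) 1 * uSumSL (χ : SL₂ → ℂ) else 0) = (Nat.card SL₂ : ℂ) := by
    rw [Finset.sum_congr rfl (g := fun χ : IrrCharacter SL₂ =>
      ∑ x : F, if P χ then (χ : SL₂ → ℂ) 1 * (χ : SL₂ → ℂ) (uSL x) else 0) (fun χ _ => by
        rw [uSumSL, Finset.mul_sum]; split_ifs <;> simp),
      Finset.sum_comm, Finset.mul_sum,
      Finset.sum_congr rfl (fun x _ => hone (uSL x) (uSL_mul_negOne_ne hodd x)),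
      Finset.sum_eq_single (0 : F)]
    · rw [if_pos uSL_zero]
    · intro x _ hx
      rw [if_neg]
      intro h
      exact hx (by simpa [coe_uSL] using congrArg (fun g : SL₂ => (g : Matrix (Fin 2) (Fin 2) F) 0 1) h)
    · simp
  set q := Fintype.card F with hq
  -- the four counts
  set Pp := ((pSetSL (F := F)).filter P).card with hPp
  set Hp := ((hSetSL (F := F)).filter P).card with hHp
  set s : ℕ := if P stIrrSL then 1 else 0 with hs
  have hHp2 : Hp ≤ 2 := (Finset.card_filter_le _ _).trans (card_hSetSL hodd).le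
  have hPone : P (Chars.principal SL₂) := by simp [hP, Chars.principal_apply]
  have hcount : ∀ (f : IrrCharacter SL₂ → ℂ) (a b : ℂ), (∀ χ ∈ pSetSL (F := F), f χ = a) →
      (∀ χ ∈ hSetSL (F := F), f χ = b) →
      ∑ χ : IrrCharacter SL₂, (if P χ then f χ else 0) =
        f (Chars.principal _) + s * f stIrrSL + Pp * a + Hp * b +
          ∑ χ ∈ cSetSL, (if P χ then f χ else 0) := by
    intro f a b ha hb
    rw [sl_partition_odd hodd, if_pos hPone, ← Finset.sum_filter (s := pSetSL),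
      ← Finset.sum_filter (s := hSetSL),
      Finset.sum_congr rfl (fun χ h => ha χ (Finset.mem_filter.1 h).1),
      Finset.sum_congr rfl (fun χ h => hb χ (Finset.mem_filter.1 h).1),
      Finset.sum_const, Finset.sum_const, nsmul_eq_mul, nsmul_eq_mul, hs]
    split_ifs <;> simp [hPp, hHp]
  have hh : ∀ χ ∈ hSetSL (F := F), (χ : SL₂ → ℂ) 1 = ((q : ℂ) + 1) / 2 := by
    intro χ hχ
    have h1 : (2 : ℂ) * (charDegree (χ : SL₂ → ℂ) : ℂ) = (q : ℂ) + 1 := by
      exact_mod_cast (of_mem_hSetSL hodd hχ).2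
    rw [CharApps.deg_eq, ← h1]
    ring
  have hp : ∀ χ ∈ pSetSL (F := F), (χ : SL₂ → ℂ) 1 = (q : ℂ) + 1 := fun χ hχ => by
    rw [CharApps.deg_eq, deg_pSetSL hχ, ← hq]; push_cast; rfl
  rw [hcount _ (((q : ℂ) + 1) * (2 * q)) (((q : ℂ) + 1) / 2 * q)
    (fun χ hχ => by
      obtain ⟨α, -, e⟩ := mem_pSetSL.1 hχ
      rw [hp χ hχ, e, uSumSL_piSL])
    (fun χ hχ => by rw [hh χ hχ, uSumSL_half hodd χ.2 (of_mem_hSetSL hodd hχ).1]),
    Finset.sum_eq_zero (fun χ hχ => by
      rw [(mem_cSetSL.1 hχ).uSum (Chars.isClassFunction_irr χ), mul_zero, ite_self]),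
    show uSumSL ((Chars.principal SL₂ : IrrCharacter SL₂) : SL₂ → ℂ) = (q : ℂ) from uSumSL_one,
    show uSumSL ((stIrrSL : IrrCharacter SL₂) : SL₂ → ℂ) = (q : ℂ) from uSumSL_stSL,
    Chars.principal_apply,
    show ((stIrrSL : IrrCharacter SL₂) : SL₂ → ℂ) 1 = (q : ℂ) from stSL_one, card_sl] at hu
  obtain ⟨k, hk⟩ : ∃ k, q = 2 * k + 7 := by
    obtain ⟨j, hj⟩ := hodd
    exact ⟨j - 3, by omega⟩
  have e2 : q ^ 2 - 1 = (2 * k + 6) * (2 * k + 8) := by rw [hk]; ring_nf; omega
  rw [e2] at hu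
  have hu' : 2 * q + 2 * s * (q * q) + 4 * Pp * ((q + 1) * q) + Hp * ((q + 1) * q) =
      q * ((2 * k + 6) * (2 * k + 8)) := by
    have h0 : ((2 * q + 2 * s * (q * q) + 4 * Pp * ((q + 1) * q) + Hp * ((q + 1) * q) : ℕ) : ℂ) =
        ((q * ((2 * k + 6) * (2 * k + 8)) : ℕ) : ℂ) := by
      rw [← hu]; push_cast; ring
    exact_mod_cast h0
  rw [hk] at hu'
  have hu2 : 2 + 2 * s * (2 * k + 7) + (4 * Pp + Hp) * (2 * k + 8) =
      (2 * k + 6) * (2 * k + 8) := by
    refine Nat.eq_of_mul_eq_mul_left (show 0 < 2 * k + 7 by omega) ?_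
    linear_combination hu'
  have hs1 : s = 1 := by
    rw [hs] at hu2 ⊢
    split_ifs at hu2 ⊢ with h
    · rfl
    · exfalso
      have h1 : (2 * k + 8) ∣ 2 := by
        rw [mul_zero, zero_mul, add_zero] at hu2
        exact (Nat.dvd_add_left (dvd_mul_left _ _)).1 (hu2 ▸ dvd_mul_left _ _)
      have := Nat.le_of_dvd two_pos h1
      omega
  rw [hs1] at hu2
  have hcnt : 4 * Pp + Hp = 2 * k + 4 := by
    refine Nat.eq_of_mul_eq_mul_right (show 0 < 2 * k + 8 by omega) ?_
    linear_combination hu2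
  set CB := ((cBigSL (F := F)).filter P).card with hCB
  set CH := ((cHalfSL (F := F)).filter P).card with hCH
  rw [hcount _ (((q : ℂ) + 1) * ((q : ℂ) + 1)) (((q : ℂ) + 1) / 2 * (((q : ℂ) + 1) / 2))
    (fun χ hχ => by rw [hp χ hχ]) (fun χ hχ => by rw [hh χ hχ]),
    ← Finset.sum_filter_add_sum_filter_not (cSetSL (F := F))
      (fun χ : IrrCharacter SL₂ => charDegree (χ : SL₂ → ℂ) = q - 1),
    show (cSetSL (F := F)).filter (fun χ : IrrCharacter SL₂ => charDegree (χ : SL₂ → ℂ) = q - 1) = cBigSL from rfl,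
    show (cSetSL (F := F)).filter (fun χ : IrrCharacter SL₂ => ¬ charDegree (χ : SL₂ → ℂ) = q - 1) = cHalfSL from rfl,
    ← Finset.sum_filter (s := cBigSL), ← Finset.sum_filter (s := cHalfSL),
    Finset.sum_congr (s₁ := (cBigSL (F := F)).filter P) rfl (g := fun _ => ((q : ℂ) - 1) * ((q : ℂ) - 1)) (fun χ hχ => by
      have h1 : charDegree (χ : SL₂ → ℂ) + 1 = q := by
        have := deg_cBigSL (Finset.mem_filter.1 hχ).1
        omega
      have h2 : (charDegree (χ : SL₂ → ℂ) : ℂ) + 1 = (q : ℂ) := by exact_mod_cast h1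
      rw [CharApps.deg_eq, ← h2]
      ring),
    Finset.sum_congr (s₁ := (cHalfSL (F := F)).filter P) rfl (g := fun _ => ((q : ℂ) - 1) / 2 * (((q : ℂ) - 1) / 2)) (fun χ hχ => by
      have h1 : 2 * charDegree (χ : SL₂ → ℂ) + 1 = q := by
        have := deg_cHalfSL hodd (Finset.mem_filter.1 hχ).1
        omega
      have h2 : (2 : ℂ) * (charDegree (χ : SL₂ → ℂ) : ℂ) + 1 = (q : ℂ) := by exact_mod_cast h1
      rw [CharApps.deg_eq, ← h2]
      ring),
    Finset.sum_const, Finset.sum_const, nsmul_eq_mul, nsmul_eq_mul, Chars.principal_apply,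
    show ((stIrrSL : IrrCharacter SL₂) : SL₂ → ℂ) 1 = (q : ℂ) from stSL_one, card_sl, e2, hs1,
    ← hCB, ← hCH] at hsq
  have hsq' : 4 + 4 * (q * q) + (4 * Pp + Hp) * ((q + 1) * (q + 1)) +
      (4 * CB + CH) * ((2 * k + 6) * (2 * k + 6)) =
      2 * (q * ((2 * k + 6) * (2 * k + 8))) := by
    have h0 : ((4 + 4 * (q * q) + (4 * Pp + Hp) * ((q + 1) * (q + 1)) +
        (4 * CB + CH) * ((2 * k + 6) * (2 * k + 6)) : ℕ) : ℂ) =
        ((2 * (q * ((2 * k + 6) * (2 * k + 8))) : ℕ) : ℂ) := by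
      have hkc : (q : ℂ) = 2 * k + 7 := by exact_mod_cast hk
      push_cast at hsq ⊢
      rw [hkc] at hsq ⊢
      linear_combination 2 * hsq
    exact_mod_cast h0
  rw [hk, hcnt] at hsq'
  have hC : 4 * CB + CH = 2 * k + 6 := by
    have h3 : (4 * CB + CH) * ((2 * k + 6) * (2 * k + 6)) =
        (2 * k + 6) * ((2 * k + 6) * (2 * k + 6)) := by
      linear_combination hsq'
    exact Nat.eq_of_mul_eq_mul_right (by positivity) h3
  have hCH2 : CH ≤ 2 := (Finset.card_filter_le _ _).trans (card_cuspSL hodd).1.le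
  by_contra hne
  have hmem : χ ∈ (cHalfSL (F := F)).filter P := by
    rw [Finset.mem_filter, cHalfSL, Finset.mem_filter]
    exact ⟨⟨hc, hne⟩, hχ⟩
  have hpos : 0 < CH := Finset.card_pos.2 ⟨χ, hmem⟩
  omega

omit hodd in
/-- The centre acts trivially on a character inflated from `PSL₂`. -/
theorem inflated_negOne (ψ : IrrCharacter (Matrix.ProjectiveSpecialLinearGroup (Fin 2) F)) :
    ((Chars.quotientIrrEquiv (Subgroup.center SL₂) ψ).1 : SL₂ → ℂ) negOne =
      ((Chars.quotientIrrEquiv (Subgroup.center SL₂) ψ).1 : SL₂ → ℂ) 1 :=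
  (trivial_center_iff _).1 (Chars.quotientIrrEquiv (Subgroup.center SL₂) ψ).2

omit hodd in
theorem deg_inflated (ψ : IrrCharacter (Matrix.ProjectiveSpecialLinearGroup (Fin 2) F)) :
    charDegree ((Chars.quotientIrrEquiv (Subgroup.center SL₂) ψ).1 : SL₂ → ℂ) =
      charDegree (ψ : Matrix.ProjectiveSpecialLinearGroup (Fin 2) F → ℂ) :=
  charDegree_congr rfl

open _root_.Classical in
include hodd in
/-- The degrees of `PSL₂(q)`. -/
theorem psl_degrees (h5 : 5 < Fintype.card F) (h4 : Fintype.card F % 4 = 1) :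
    (∀ ψ : IrrCharacter (Matrix.ProjectiveSpecialLinearGroup (Fin 2) F),
      charDegree (ψ : Matrix.ProjectiveSpecialLinearGroup (Fin 2) F → ℂ) = 1 ∨
      charDegree (ψ : Matrix.ProjectiveSpecialLinearGroup (Fin 2) F → ℂ) = Fintype.card F ∨
      charDegree (ψ : Matrix.ProjectiveSpecialLinearGroup (Fin 2) F → ℂ) = Fintype.card F - 1 ∨
      (Fintype.card F + 1) / 2 ∣
        charDegree (ψ : Matrix.ProjectiveSpecialLinearGroup (Fin 2) F → ℂ)) ∧
    Nat.card {ψ : IrrCharacter (Matrix.ProjectiveSpecialLinearGroup (Fin 2) F) //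
      charDegree (ψ : Matrix.ProjectiveSpecialLinearGroup (Fin 2) F → ℂ) = 1} = 1 ∧
    Nat.card {ψ : IrrCharacter (Matrix.ProjectiveSpecialLinearGroup (Fin 2) F) //
      charDegree (ψ : Matrix.ProjectiveSpecialLinearGroup (Fin 2) F → ℂ) = Fintype.card F} = 1 := by
  set E := Chars.quotientIrrEquiv (Subgroup.center SL₂) with hE
  have hd : ∀ ψ, charDegree ((E ψ).1 : SL₂ → ℂ) =
      charDegree (ψ : Matrix.ProjectiveSpecialLinearGroup (Fin 2) F → ℂ) := deg_inflated
  have key : ∀ ψ, (E ψ).1 = Chars.principal SL₂ ∨ (E ψ).1 = stIrrSL ∨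
      charDegree ((E ψ).1 : SL₂ → ℂ) = Fintype.card F - 1 ∨
      (charDegree ((E ψ).1 : SL₂ → ℂ) = Fintype.card F + 1 ∨
        2 * charDegree ((E ψ).1 : SL₂ → ℂ) = Fintype.card F + 1) := by
    intro ψ
    rcases sl_cases_odd hodd (E ψ).1 with h | h | h | h | h
    · exact Or.inl h
    · exact Or.inr (Or.inl h)
    · exact Or.inr (Or.inr (Or.inr (Or.inl (deg_pSetSL h))))
    · exact Or.inr (Or.inr (Or.inr (Or.inr (of_mem_hSetSL hodd h).2)))
    · exact Or.inr (Or.inr (Or.inl (deg_of_trivial hodd h5 h4 _ h (inflated_negOne ψ))))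
  obtain ⟨hst, -, -⟩ := exists_projective hodd h5
  obtain ⟨χst, hP, hdst⟩ := hst
  refine ⟨fun ψ => ?_, ?_, ?_⟩
  · rw [← hd ψ]
    rcases key ψ with h | h | h | h | h
    · left; rw [h, deg_principal]
    · right; left; rw [h, deg_stIrrSL]
    · right; right; left; exact h
    · right; right; right; rw [h]; exact Nat.div_dvd_of_dvd (by omega)
    · right; right; right; exact dvd_of_eq (by omega)
  · refine Nat.card_eq_one_iff_unique.2 ⟨⟨fun a b => Subtype.ext (E.injective (Subtype.ext ?_))⟩,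
      ⟨⟨E.symm ⟨Chars.principal SL₂, fun x _ => by simp [Chars.principal_apply]⟩, ?_⟩⟩⟩
    · have ha : (E a.1).1 = Chars.principal SL₂ := by
        have hx := (hd _).trans a.2
        rcases key a.1 with h | h | h | h | h
        all_goals first
          | exact h
          | (rw [h, deg_stIrrSL] at hx; omega)
          | omega
      have hb : (E b.1).1 = Chars.principal SL₂ := by
        have hx := (hd _).trans b.2
        rcases key b.1 with h | h | h | h | h
        all_goals first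
          | exact h
          | (rw [h, deg_stIrrSL] at hx; omega)
          | omega
      rw [ha, hb]
    · rw [← hd]
      show charDegree ((E (E.symm _)).1 : SL₂ → ℂ) = 1
      rw [Equiv.apply_symm_apply, deg_principal]
  · refine Nat.card_eq_one_iff_unique.2 ⟨⟨fun a b => Subtype.ext (E.injective (Subtype.ext ?_))⟩,
      ⟨⟨E.symm ⟨χst, (trivial_center_iff χst).2 hP⟩, ?_⟩⟩⟩
    · have ha : (E a.1).1 = stIrrSL := by
        have hx := (hd _).trans a.2
        rcases key a.1 with h | h | h | h | h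
        all_goals first
          | exact h
          | (rw [h, deg_principal] at hx; omega)
          | omega
      have hb : (E b.1).1 = stIrrSL := by
        have hx := (hd _).trans b.2
        rcases key b.1 with h | h | h | h | h
        all_goals first
          | exact h
          | (rw [h, deg_principal] at hx; omega)
          | omega
      rw [ha, hb]
    · rw [← hd]
      show charDegree ((E (E.symm _)).1 : SL₂ → ℂ) = _
      rw [Equiv.apply_symm_apply, hdst]

end CfsgLib.CharsMore.DegreesPSL
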