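import Cfsg.Agent.Lib.Chars.DefectZero
import Cfsg.Agent.Lib.CharApps.Basic
import Cfsg.Agent.Lib.CharApps.Galois
import Cfsg.Agent.Lib.Chars.Linear
import Cfsg.Agent.Lib.CharsMore.NineTI.Mult

/-!
# Groups with the character degrees of `PSL₂(p²)`: centralizers of `p`-elements

The character of degree `q = p²` vanishes on `p`-singular elements; orthogonality with the identity
shows that it takes no value divisible by `p` at an element of prime order different from `p`, so
centralizers of non-identity `p`-elements are `p`-groups.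
-/

set_option autoImplicit false
set_option linter.style.haveILetI false
set_option linter.unusedSectionVars false

open scoped Classical

namespace CfsgLib.CharsMore.DegreesPSL

open Cfsg CfsgLib.Chars CfsgLib.CharApps Subgroup

universe u

variable {G : Type u} [Group G]

/-- The hypotheses on order and degrees; `q = p ^ 2` and `m = (q + 1) / 2`. -/
structure Deg (G : Type u) [Group G] (p q m : ℕ) (χ₀ : IrrCharacter G) : Prop where
  hp : p.Prime
  p5 : 5 ≤ p
  hq : q = p ^ 2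
  hm : 2 * m = q + 1
  card : Nat.card G = q * ((q - 1) * m)
  deg0 : charDegree (χ₀ : G → ℂ) = q
  uniq : ∀ χ : IrrCharacter G, charDegree (χ : G → ℂ) = q → χ = χ₀
  lin : ∀ χ : IrrCharacter G, charDegree (χ : G → ℂ) = 1 → χ = principal G
  shape : ∀ χ : IrrCharacter G, charDegree (χ : G → ℂ) = 1 ∨ charDegree (χ : G → ℂ) = q ∨
    charDegree (χ : G → ℂ) = q - 1 ∨ m ∣ charDegree (χ : G → ℂ)

namespace Deg

variable {p q m : ℕ} {χ₀ : IrrCharacter G} (D : Deg G p q m χ₀)
include D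

theorem q_mod : q % 8 = 1 := by
  have h2 := D.hp.eq_two_or_odd
  have := D.p5
  rcases h2 with h | h
  · omega
  have hp8 : p % 8 = 1 ∨ p % 8 = 3 ∨ p % 8 = 5 ∨ p % 8 = 7 := by omega
  rw [D.hq, Nat.pow_mod]
  rcases hp8 with h' | h' | h' | h' <;> rw [h'] <;> norm_num

theorem q_ge : 25 ≤ q := by
  have := D.p5
  rw [D.hq]
  nlinarith

theorem finite : Finite G := Nat.finite_of_card_ne_zero (by
  rw [D.card]
  have := D.q_ge; have := D.hm
  exact Nat.mul_ne_zero (by omega) (Nat.mul_ne_zero (by omega) (by omega)))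

theorem p_dvd_q : p ∣ q := D.hq ▸ dvd_pow_self p two_ne_zero

theorem coprime_q : q.Coprime ((q - 1) * m) := by
  have := D.q_ge; have := D.hm
  refine Nat.Coprime.mul_right ?_ ?_
  · exact (Nat.coprime_self_sub_right (by omega)).2 (Nat.coprime_one_right q)
  · refine Nat.Coprime.coprime_dvd_right (show m ∣ q + 1 from ⟨2, by omega⟩) ?_
    simpa using Nat.coprime_one_right q

theorem not_p_dvd : ¬ p ∣ (q - 1) * m := fun h =>
  D.hp.not_dvd_one (D.coprime_q ▸ Nat.dvd_gcd D.p_dvd_q h)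

theorem coprime_pred_m : (q - 1).Coprime m := by
  have hq := D.q_ge; have hm := D.hm; have h8 := D.q_mod
  have h1 : Nat.gcd (q - 1) m ∣ q - 1 := Nat.gcd_dvd_left _ _
  have h2 : Nat.gcd (q - 1) m ∣ m := Nat.gcd_dvd_right _ _
  have h3 : Nat.gcd (q - 1) m ∣ 2 := by
    have h4 : Nat.gcd (q - 1) m ∣ 2 * m - (q - 1) := Nat.dvd_sub (h2.mul_left 2) h1
    rwa [show 2 * m - (q - 1) = 2 by omega] at h4
  rcases (Nat.dvd_prime Nat.prime_two).1 h3 with h | h
  · exact h
  · exfalso
    rw [h] at h2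
    omega

theorem cast_deg0 : (χ₀ : G → ℂ) 1 = (q : ℂ) := by rw [deg_eq, D.deg0]

/-- The character of degree `q` vanishes on `p`-singular elements. -/
theorem vanish {g : G} (hg : p ∣ orderOf g) : (χ₀ : G → ℂ) g = 0 := by
  haveI := D.finite
  haveI := Fintype.ofFinite G
  refine Chars.eq_zero_of_dvd_orderOf χ₀.2 D.hp D.cast_deg0 (n := 2) ?_ (dvd_of_eq D.hq.symm) hg
  intro h
  rw [D.card, D.hq, pow_succ] at h
  have h1 := Nat.dvd_of_mul_dvd_mul_left (pow_pos D.hp.pos 2) h
  rw [← D.hq] at h1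
  exact D.not_p_dvd h1

/-- Its values are rational integers. -/
theorem exists_int (g : G) : ∃ s : ℤ, (χ₀ : G → ℂ) g = (s : ℂ) := by
  haveI := D.finite
  haveI : NeZero (orderOf g) := ⟨(orderOf_pos g).ne'⟩
  have hch := isCharacter_of_irr χ₀.2
  obtain ⟨s, hs⟩ := exists_int_of_rat (char_isIntegral hch g)
    (exists_rat_of_fixed (char_mem_cyclo hch g (pow_orderOf_eq_one g)) fun k σ _ _ => by
      have hfix : galoisIrr σ χ₀ = χ₀ := D.uniq _ (by
        have h1 : (galoisIrr σ χ₀ : G → ℂ) 1 = (q : ℂ) := by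
          rw [galoisIrr_apply, D.cast_deg0, map_natCast]
        rw [deg_eq] at h1
        exact_mod_cast h1)
      calc σ ((χ₀ : G → ℂ) g) = (galoisIrr σ χ₀ : G → ℂ) g := (galoisIrr_apply σ χ₀ g).symm
        _ = _ := by rw [hfix])
  exact ⟨s, hs.symm⟩

/-- The value is constant on the generators of a cyclic subgroup. -/
theorem apply_pow {g : G} {k : ℕ} (hk : k.Coprime (orderOf g)) :
    (χ₀ : G → ℂ) (g ^ k) = (χ₀ : G → ℂ) g := by
  haveI := D.finite
  haveI : NeZero (orderOf g) := ⟨(orderOf_pos g).ne'⟩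
  obtain ⟨σ, hσ⟩ := exists_galois_pow (orderOf g) hk
  obtain ⟨s, hs⟩ := D.exists_int g
  rw [← galois_apply σ hσ (isCharacter_of_irr χ₀.2) g (pow_orderOf_eq_one g), hs, map_intCast]

/-- Orthogonality with the identity. -/
theorem orth_dvd {x : G} (hx : x ≠ 1) {s : ℤ} (hs : (χ₀ : G → ℂ) x = (s : ℂ)) {M : ℕ} (hM : M ≠ 0)
    (h : ∀ χ : IrrCharacter G, χ ≠ principal G → χ ≠ χ₀ →
      (χ : G → ℂ) x = 0 ∨ M ∣ charDegree (χ : G → ℂ)) :
    (M : ℤ) ∣ 1 + q * s := by
  haveI := D.finite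
  letI := irrFintype G
  have h0 := sum_degree_mul (G := G) x
  rw [if_neg hx] at h0
  have hne : principal G ≠ χ₀ := fun e => by
    have := D.cast_deg0; rw [← e, principal_apply] at this
    have := D.q_ge
    have : (q : ℕ) = 1 := by exact_mod_cast (by assumption : (1 : ℂ) = q).symm
    omega
  rw [← Finset.sum_add_sum_compl ({principal G, χ₀} : Finset (IrrCharacter G)),
    Finset.sum_pair hne, principal_apply, principal_apply, D.cast_deg0, hs, one_mul] at h0
  have hint : IsIntegral ℤ ((∑ χ ∈ ({principal G, χ₀} : Finset (IrrCharacter G))ᶜ,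
      (χ : G → ℂ) 1 * (χ : G → ℂ) x) / (M : ℂ)) := by
    rw [Finset.sum_div]
    refine IsIntegral.sum _ fun χ hχ => ?_
    rw [Finset.mem_compl, Finset.mem_insert, Finset.mem_singleton, not_or] at hχ
    rcases h χ hχ.1 hχ.2 with h1 | ⟨c, hc⟩
    · rw [h1, mul_zero, zero_div]; exact isIntegral_zero
    · rw [deg_eq χ, hc, Nat.cast_mul, mul_assoc, mul_div_cancel_left₀ _ (Nat.cast_ne_zero.2 hM)]
      exact IsIntegral.mul (isIntegral_algebraMap (x := (c : ℤ)))
        (char_isIntegral (isCharacter_of_irr χ.2) x)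
  rw [show (∑ χ ∈ ({principal G, χ₀} : Finset (IrrCharacter G))ᶜ,
      (χ : G → ℂ) 1 * (χ : G → ℂ) x) = -(((1 + q * s : ℤ) : ℂ)) by
    push_cast; linear_combination h0] at hint
  obtain ⟨n, hn⟩ := exists_int_of_rat hint ⟨-((1 + q * s : ℤ) : ℚ) / (M : ℚ), by push_cast; ring⟩
  refine ⟨-n, ?_⟩
  rw [eq_div_iff (Nat.cast_ne_zero.2 hM)] at hn
  have : ((n * M : ℤ) : ℂ) = ((-(1 + q * s) : ℤ) : ℂ) := by push_cast at hn ⊢; linear_combination hn
  have := Int.cast_injective (α := ℂ) this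
  linarith

/-- The two multiplicity equations at a product of elements of order `r` and `p`. -/
theorem mult {x y : G} {r : ℕ} (hr : r.Prime) (hrp : r ≠ p) (hx : orderOf x = r)
    (hy : orderOf y = p) (hc : Commute x y) {s : ℤ} (hs : (χ₀ : G → ℂ) x = (s : ℂ)) :
    ∃ a b : ℕ, (q : ℤ) + ((r : ℤ) - 1) * s = (r * p : ℕ) * a ∧ (q : ℤ) - s = (r * p : ℕ) * b := by
  haveI := D.finite
  haveI : NeZero (r * p) := ⟨Nat.mul_ne_zero hr.ne_zero D.hp.ne_zero⟩
  have hcop : r.Coprime p := (Nat.coprime_primes hr D.hp).2 hrp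
  have hz : orderOf (x * y) = r * p := by
    rw [hc.orderOf_mul_eq_mul_orderOf_of_coprime (by rwa [hx, hy]), hx, hy]
  have hch := isCharacter_of_irr χ₀.2
  have hzero : ∀ i, ¬ p ∣ i → (χ₀ : G → ℂ) ((x * y) ^ i) = 0 := fun i hi => D.vanish (by
    rw [orderOf_pow, hz]
    refine Nat.dvd_div_of_mul_dvd ?_
    have h1 : (Nat.gcd (r * p) i).Coprime p :=
      ((D.hp.coprime_iff_not_dvd.2 hi).symm).coprime_dvd_left (Nat.gcd_dvd_right _ _)
    exact h1.mul_dvd_of_dvd_of_dvd (Nat.gcd_dvd_left _ _) (dvd_mul_left p r))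
  have hval : ∀ j, j < r → j ≠ 0 → (χ₀ : G → ℂ) ((x * y) ^ (p * j)) = (s : ℂ) := fun j hj hj0 => by
    rw [hc.mul_pow, pow_mul y, ← hy, pow_orderOf_eq_one, one_pow, mul_one, hy, D.apply_pow, hs]
    rw [hx, Nat.coprime_mul_iff_left]
    exact ⟨hcop.symm, (hr.coprime_iff_not_dvd.2 fun h => hj0 (Nat.eq_zero_of_dvd_of_lt h hj)).symm⟩
  have key : ∀ ζ : ℂ, ζ ^ (r * p) = 1 → ∃ a : ℕ,
      (q : ℂ) + (∑ j ∈ Finset.range r, (ζ ^ p) ^ j - 1) * s = ((r * p : ℕ) : ℂ) * a := by
    intro ζ hζ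
    obtain ⟨a, ha⟩ := NineTI.exists_mult_root hch (z := x * y) (m := r * p)
      (by rw [← hz]; exact pow_orderOf_eq_one _) hζ
    refine ⟨a, ?_⟩
    rw [← ha, ← Finset.sum_filter_add_sum_filter_not (Finset.range (r * p)) (fun i => p ∣ i),
      Finset.sum_eq_zero (s := (Finset.range (r * p)).filter fun i => ¬ p ∣ i) (fun i hi => by
        rw [hzero i (Finset.mem_filter.1 hi).2, mul_zero]), add_zero,
      show (Finset.range (r * p)).filter (fun i => p ∣ i) =
        (Finset.range r).image (fun j => p * j) by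
        ext i
        simp only [Finset.mem_filter, Finset.mem_range, Finset.mem_image]
        constructor
        · rintro ⟨hi, j, rfl⟩
          exact ⟨j, Nat.lt_of_mul_lt_mul_left (a := p) (by rwa [mul_comm r p] at hi), rfl⟩
        · rintro ⟨j, hj, rfl⟩
          exact ⟨by rw [mul_comm r p]; exact Nat.mul_lt_mul_of_pos_left hj D.hp.pos, dvd_mul_right p j⟩,
      Finset.sum_image fun a _ b _ e => Nat.eq_of_mul_eq_mul_left D.hp.pos e]
    obtain ⟨r', hr'⟩ : ∃ r', r = r' + 1 := ⟨r - 1, by have := hr.two_le; omega⟩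
    rw [hr', Finset.sum_range_succ', Finset.sum_range_succ', pow_zero, mul_zero, pow_zero,
      pow_zero, D.cast_deg0, add_sub_cancel_right, Finset.sum_mul, one_mul, add_comm]
    refine congrArg (· + (q : ℂ)) (Finset.sum_congr rfl fun j hj => ?_)
    rw [← pow_mul, hval (j + 1) (by have := Finset.mem_range.1 hj; omega) (Nat.succ_ne_zero j)]
  obtain ⟨a, ha⟩ := key 1 (one_pow _)
  obtain ⟨ζ, hζ⟩ : ∃ ζ : ℂ, IsPrimitiveRoot ζ (r * p) :=
    ⟨_, Complex.isPrimitiveRoot_exp _ (NeZero.ne _)⟩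
  obtain ⟨b, hb⟩ := key ζ hζ.pow_eq_one
  have hω : IsPrimitiveRoot (ζ ^ p) r := hζ.pow (NeZero.pos _) (mul_comm r p)
  rw [hω.geom_sum_eq_zero hr.one_lt] at hb
  simp only [one_pow, Finset.sum_const, Finset.card_range, nsmul_eq_mul, mul_one] at ha
  refine ⟨a, b, ?_, ?_⟩
  · have : (((q : ℤ) + ((r : ℤ) - 1) * s : ℤ) : ℂ) = (((r * p : ℕ) * a : ℤ) : ℂ) := by
      push_cast at ha ⊢; linear_combination ha
    exact Int.cast_injective this
  · have : (((q : ℤ) - s : ℤ) : ℂ) = (((r * p : ℕ) * b : ℤ) : ℂ) := by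
      push_cast at hb ⊢; linear_combination hb
    exact Int.cast_injective this

/-- No involution has value `-q`. -/
theorem det_absurd {t : G} (ht : orderOf t = 2) (h : (χ₀ : G → ℂ) t = -(q : ℂ)) : False := by
  haveI := D.finite
  obtain ⟨k, ρ, -, hρ⟩ := id χ₀.2
  obtain ⟨b, μ, hμ, -, hb, -, hsum, -⟩ := exists_eigenbasis_rep ρ t
  have hn : Module.finrank ℂ (Fin k → ℂ) = q := by
    have h1 := Representation.char_one (ρ := ρ)
    rw [hρ, D.cast_deg0] at h1
    exact_mod_cast h1.symm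
  rw [hρ, h] at hsum
  have hμ' : ∀ i, μ i = -1 := by
    have hpm : ∀ i, μ i = 1 ∨ μ i = -1 := fun i => sq_eq_one_iff.1 (ht ▸ hμ i)
    have h0 : ∑ i, ((μ i).re + 1) = 0 := by
      rw [Finset.sum_add_distrib, ← Complex.re_sum, ← hsum, Finset.sum_const, Finset.card_univ,
        Fintype.card_fin, hn]
      simp
    have hpos : ∀ i ∈ Finset.univ, 0 ≤ (μ i).re + 1 := fun i _ => by
      rcases hpm i with e | e <;> rw [e] <;> simp
    intro i
    rcases hpm i with e | e
    · have := (Finset.sum_eq_zero_iff_of_nonneg hpos).1 h0 i (Finset.mem_univ i)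
      rw [e] at this; norm_num at this
    · exact e
  have hρt : ρ t = (-1 : ℂ) • (LinearMap.id : (Fin k → ℂ) →ₗ[ℂ] (Fin k → ℂ)) :=
    b.ext fun i => by rw [hb i, hμ' i]; rfl
  have hdet : LinearMap.det (ρ t) = -1 := by
    rw [hρt, LinearMap.det_smul, LinearMap.det_id, mul_one, hn]
    exact Odd.neg_one_pow (Nat.odd_iff.2 (by have := D.q_mod; omega))
  let lam : G →* ℂˣ := ((LinearMap.det (M := Fin k → ℂ) (A := ℂ)).comp ρ).toHomUnits
  have hcom : commutator G = ⊤ := by
    rw [← Subgroup.index_eq_one, ← card_degree_one]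
    refine Nat.card_eq_one_iff_unique.2 ⟨⟨fun a b => ?_⟩, ⟨⟨principal G, principal_apply 1⟩⟩⟩
    have key : ∀ χ : IrrCharacter G, (χ : G → ℂ) 1 = 1 → χ = principal G := fun χ h =>
      D.lin χ (by rw [deg_eq] at h; exact_mod_cast h)
    exact Subtype.ext ((key a.1 a.2).trans (key b.1 b.2).symm)
  have h1 : lam t = 1 := by
    have hle : commutator G ≤ lam.ker := Abelianization.commutator_subset_ker lam
    exact MonoidHom.mem_ker.1 (hle (by rw [hcom]; trivial))
  have h2 : ((lam t : ℂˣ) : ℂ) = LinearMap.det (ρ t) := rfl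
  rw [h1, hdet, Units.val_one] at h2
  norm_num at h2

/-- No element of prime order other than `p` commutes with one of order `p`. -/
theorem no_commute {x y : G} {r : ℕ} (hr : r.Prime) (hrp : r ≠ p) (hx : orderOf x = r)
    (hy : orderOf y = p) (hc : Commute x y) : False := by
  haveI := D.finite
  haveI := Fintype.ofFinite G
  have hx1 : x ≠ 1 := fun h => hr.ne_one (by rw [← hx, h, orderOf_one])
  obtain ⟨s, hs⟩ := D.exists_int x
  obtain ⟨a, b, ha, hb⟩ := D.mult hr hrp hx hy hc hs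
  have hps : (p : ℤ) ∣ s := by
    have h1 : (p : ℤ) ∣ (q : ℤ) - s := hb ▸ ⟨(r : ℤ) * b, by push_cast; ring⟩
    have h2 : (p : ℤ) ∣ (q : ℤ) := Int.natCast_dvd_natCast.2 D.p_dvd_q
    simpa using Int.dvd_sub h2 h1
  have hqb := D.q_ge
  have hmq := D.hm
  have h8 := D.q_mod
  have hr2 : (2 : ℤ) ≤ r := by exact_mod_cast hr.two_le
  have hrp0 : (0 : ℤ) ≤ (r * p : ℕ) := Int.natCast_nonneg _
  have hsq : s ≤ q := by nlinarith [mul_nonneg hrp0 (Int.natCast_nonneg b)]
  have hsl : -(q : ℤ) ≤ s := by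
    nlinarith [mul_nonneg hrp0 (Int.natCast_nonneg a)]
  have hpk : ∀ {n : ℤ}, (p : ℤ) ∣ n → 0 < n → (p : ℤ) ≤ n := fun h hn => Int.le_of_dvd hn h
  have hp5 : (5 : ℤ) ≤ p := by exact_mod_cast D.p5
  have hpq : (p : ℤ) ∣ (q : ℤ) := Int.natCast_dvd_natCast.2 D.p_dvd_q
  -- the value `-q` is impossible
  have hneg : s ≠ -(q : ℤ) := by
    intro hsn
    by_cases h2 : r = 2
    · exact D.det_absurd (h2 ▸ hx) (by rw [hs, hsn]; push_cast; rfl)
    · have : (3 : ℤ) ≤ r := by exact_mod_cast (show 3 ≤ r by have := hr.two_le; omega)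
      nlinarith [mul_nonneg hrp0 (Int.natCast_nonneg a)]
  have hrG : r ∣ q * ((q - 1) * m) := D.card ▸ hx ▸ orderOf_dvd_natCard x
  have hrq : ¬ r ∣ q := fun h => hrp ((Nat.prime_dvd_prime_iff_eq hr D.hp).1
    (hr.dvd_of_dvd_pow (D.hq ▸ h)))
  have hexp := Nat.ordProj_dvd (Nat.card G) r
  have hnot : ¬ r ^ ((Nat.card G).factorization r + 1) ∣ Nat.card G := fun h => by
    have := (hr.pow_dvd_iff_le_factorization Nat.card_pos.ne').1 h
    omega
  generalize hN : (Nat.card G).factorization r = N at hexp hnot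
  rw [D.card] at hexp
  have hexp1 : r ^ N ∣ (q - 1) * m :=
    (Nat.Coprime.pow_left N (hr.coprime_iff_not_dvd.2 hrq)).dvd_of_dvd_mul_left hexp
  rcases hr.dvd_mul.1 ((hr.dvd_mul.1 hrG).resolve_left hrq) with hrd | hrd
  · -- `r ∣ q - 1`: the characters of degree `q - 1` vanish
    have hrm : r.Coprime m := D.coprime_pred_m.coprime_dvd_left hrd
    have hdd := D.orth_dvd hx1 hs (M := m) (by omega) fun χ h1 h2 => by
      rcases D.shape χ with h | h | h | h
      · exact absurd (D.lin χ h) h1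
      · exact absurd (D.uniq χ h) h2
      · left
        exact Chars.eq_zero_of_dvd_orderOf χ.2 hr (deg_eq χ) hnot
          (h ▸ (hrm.pow_left N).dvd_of_dvd_mul_right hexp1) (by rw [hx])
      · exact Or.inr h
    obtain ⟨j, hj⟩ : (m : ℤ) ∣ s - 1 := by
      obtain ⟨c, hc'⟩ := hdd
      refine ⟨2 * s - c, ?_⟩
      have e : 2 * (m : ℤ) = q + 1 := by exact_mod_cast hmq
      linear_combination (-1 : ℤ) * hc' + s * (-1) * e
    have e : 2 * (m : ℤ) = q + 1 := by exact_mod_cast hmq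
    have hm0 : (0 : ℤ) < m := by exact_mod_cast (show 0 < m by omega)
    have hj1 : j ≤ 1 := by nlinarith
    have hj2 : -2 ≤ j := by nlinarith
    interval_cases j
    · exact hneg (by linarith)
    · have h1 : (p : ℤ) ∣ 1 := by
        have h2 : (p : ℤ) ∣ 2 * s + q := dvd_add (hps.mul_left 2) hpq
        rwa [show 2 * s + (q : ℤ) = 1 by linarith] at h2
      linarith [hpk h1 one_pos]
    · have h1 : (p : ℤ) ∣ 1 := by rwa [show (1 : ℤ) = s by linarith]
      linarith [hpk h1 one_pos]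
    · have h1 : (p : ℤ) ∣ 3 := by
        have h2 : (p : ℤ) ∣ 2 * s - q := dvd_sub (hps.mul_left 2) hpq
        rwa [show 2 * s - (q : ℤ) = 3 by linarith] at h2
      linarith [hpk h1 (by norm_num)]
  · -- `r ∣ m`: the characters of degree divisible by `m` vanish
    have hrm : r.Coprime (q - 1) := D.coprime_pred_m.symm.coprime_dvd_left hrd
    have hdd := D.orth_dvd hx1 hs (M := q - 1) (by omega) fun χ h1 h2 => by
      rcases D.shape χ with h | h | h | h
      · exact absurd (D.lin χ h) h1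
      · exact absurd (D.uniq χ h) h2
      · exact Or.inr (h ▸ dvd_rfl)
      · left
        exact Chars.eq_zero_of_dvd_orderOf χ.2 hr (deg_eq χ) hnot
          (((hrm.pow_left N).dvd_of_dvd_mul_left hexp1).trans h) (by rw [hx])
    obtain ⟨j, hj⟩ : ((q : ℤ) - 1) ∣ s + 1 := by
      obtain ⟨c, hc'⟩ := hdd
      refine ⟨c - s, ?_⟩
      rw [Nat.cast_sub (by omega), Nat.cast_one] at hc'
      linear_combination hc'
    have hr3 : (3 : ℤ) ≤ r := by
      have : r ≠ 2 := fun h => by rw [h] at hrd; omega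
      exact_mod_cast (show 3 ≤ r by have := hr.two_le; omega)
    have hq25 : (25 : ℤ) ≤ q := by exact_mod_cast hqb
    have hj1 : j ≤ 1 := by nlinarith
    have hj2 : -1 ≤ j := by nlinarith
    interval_cases j
    · exact hneg (by linarith)
    · have h1 : (p : ℤ) ∣ 1 := by
        have := dvd_neg.2 hps
        rwa [show -s = (1 : ℤ) by linarith] at this
      linarith [hpk h1 one_pos]
    · have h1 : (p : ℤ) ∣ 2 := by
        have h2 : (p : ℤ) ∣ (q : ℤ) - s := dvd_sub hpq hps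
        rwa [show (q : ℤ) - s = 2 by linarith] at h2
      linarith [hpk h1 two_pos]

/-- An element commuting with a non-identity `p`-element is a `p`-element. -/
theorem eq_p_of_commute {y z : G} (hy : p ∣ orderOf y) (hc : Commute y z) {r : ℕ} (hr : r.Prime)
    (hrz : r ∣ orderOf z) : r = p := by
  haveI := D.finite
  by_contra hne
  exact D.no_commute hr hne (orderOf_pow_orderOf_div (orderOf_pos z).ne' hrz)
    (orderOf_pow_orderOf_div (orderOf_pos y).ne' hy) (hc.symm.pow_pow _ _)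

end Deg

end CfsgLib.CharsMore.DegreesPSL
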