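import Cfsg.Agent.Lib.CharsMore.DegreesPSL.Local
import Cfsg.Agent.Lib.Base.Frobenius
import Cfsg.Agent.Lib.Perm.ZassG.PSL
import Cfsg.Agent.Lib.PSL2.Congr

/-!
# Groups with the character degrees of `PSL₂(p²)`: the action on the Sylow `p`-subgroups

The Sylow `p`-subgroups are abelian, self-centralizing and meet trivially; there are `q + 1` of
them and the group acts on them as a Zassenhaus group with abelian kernel.
-/

set_option autoImplicit false
set_option linter.style.haveILetI false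
set_option linter.unusedSectionVars false

open scoped Classical

namespace CfsgLib.CharsMore.DegreesPSL

open Cfsg Subgroup MulAction

universe u

variable {G : Type u} [Group G]

namespace Deg

variable {p q m : ℕ} {χ₀ : IrrCharacter G} (D : Deg G p q m χ₀)
include D

theorem card_sylow [hp : Fact p.Prime] (P : Sylow p G) : Nat.card (P : Subgroup G) = q := by
  haveI := D.finite
  have h0 : (q - 1) * m ≠ 0 := by
    have := D.q_ge; have := D.hm; exact Nat.mul_ne_zero (by omega) (by omega)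
  rw [P.card_eq_multiplicity, D.card, D.hq, Nat.factorization_mul (pow_ne_zero 2 hp.out.ne_zero)
    (D.hq ▸ h0), Finsupp.add_apply, hp.out.factorization_pow, Finsupp.single_eq_same,
    Nat.factorization_eq_zero_of_not_dvd (D.hq ▸ D.not_p_dvd), add_zero]

theorem index_sylow [hp : Fact p.Prime] (P : Sylow p G) :
    (P : Subgroup G).index = (q - 1) * m := by
  haveI := D.finite
  have h := (P : Subgroup G).card_mul_index
  rw [D.card_sylow P, D.card] at h
  exact Nat.eq_of_mul_eq_mul_left (by have := D.q_ge; omega) h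

theorem commute_mem [hp : Fact p.Prime] (P : Sylow p G) {a b : G} (ha : a ∈ (P : Subgroup G))
    (hb : b ∈ (P : Subgroup G)) : Commute a b := by
  have h := IsPGroup.isMulCommutative_of_card_eq_prime_sq (p := p) (G := (P : Subgroup G))
    (by rw [D.card_sylow P, D.hq])
  exact congrArg Subtype.val (h.is_comm.comm ⟨a, ha⟩ ⟨b, hb⟩)

/-- The centralizer of a non-identity element of a Sylow `p`-subgroup is that subgroup. -/
theorem mem_of_commute [hp : Fact p.Prime] (P : Sylow p G) {y z : G} (hy : y ∈ (P : Subgroup G))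
    (hy1 : y ≠ 1) (hc : Commute y z) : z ∈ (P : Subgroup G) := by
  haveI := D.finite
  have hpy : p ∣ orderOf y := by
    obtain ⟨k, hk⟩ := IsPGroup.iff_orderOf.1 P.isPGroup' ⟨y, hy⟩
    rw [Subgroup.orderOf_mk] at hk
    rw [hk]
    exact dvd_pow_self p fun h0 => hy1 (orderOf_eq_one_iff.1 (by rw [hk, h0, pow_zero]))
  have hC : IsPGroup p (centralizer ({y} : Set G)) := IsPGroup.iff_orderOf.2 fun w => by
    refine ⟨_, Nat.eq_prime_pow_of_unique_prime_dvd (orderOf_pos w).ne' fun {r} hr hrw => ?_⟩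
    exact D.eq_p_of_commute hpy (mem_centralizer_singleton_iff.1 w.2).symm hr
      (by rwa [Subgroup.orderOf_coe])
  have hle : (P : Subgroup G) ≤ centralizer ({y} : Set G) := fun w hw =>
    mem_centralizer_singleton_iff.2 (D.commute_mem P hw hy).eq
  rw [← P.is_maximal' hC hle]
  exact mem_centralizer_singleton_iff.2 hc.symm.eq

theorem sylow_inf_eq_bot [hp : Fact p.Prime] {P Q : Sylow p G} (hPQ : P ≠ Q) :
    (P : Subgroup G) ⊓ Q = ⊥ := by
  haveI := D.finite
  refine (Subgroup.eq_bot_iff_forall _).2 fun x hx => ?_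
  by_contra hx1
  exact hPQ (Sylow.ext (le_antisymm
    (fun w hw => D.mem_of_commute Q hx.2 hx1 (D.commute_mem P hx.1 hw))
    (fun w hw => D.mem_of_commute P hx.1 hx1 (D.commute_mem Q hx.2 hw))))

omit D in
theorem mem_of_smul_eq [hp : Fact p.Prime] [Finite G] {P Q : Sylow p G} {u : G}
    (hu : u ∈ (P : Subgroup G)) (h : u • Q = Q) : u ∈ (Q : Subgroup G) := by
  have h1 : u ∈ (P : Subgroup G) ⊓ normalizer ((Q : Subgroup G) : Set G) :=
    ⟨hu, Sylow.smul_eq_iff_mem_normalizer.1 h⟩
  have h2 := P.isPGroup'.inf_normalizer_sylow Q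
  exact (h2.le h1).2

omit D in
theorem smul_self [Fact p.Prime] {P : Sylow p G} {u : G} (hu : u ∈ (P : Subgroup G)) : u • P = P :=
  Sylow.smul_eq_iff_mem_normalizer.2 (Subgroup.le_normalizer hu)

theorem eq_one_of_smul_eq [hp : Fact p.Prime] {P Q : Sylow p G} (hPQ : Q ≠ P) {u : G}
    (hu : u ∈ (P : Subgroup G)) (h : u • Q = Q) : u = 1 := by
  haveI := D.finite
  have h1 : u ∈ (P : Subgroup G) ⊓ Q := ⟨hu, mem_of_smul_eq hu h⟩
  rwa [D.sylow_inf_eq_bot hPQ.symm, Subgroup.mem_bot] at h1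

theorem not_normal [hp : Fact p.Prime] (P : Sylow p G) : ¬ (P : Subgroup G).Normal := by
  intro hn
  haveI := D.finite
  have hcop : (Nat.card (P : Subgroup G)).Coprime (P : Subgroup G).index := by
    rw [D.card_sylow P, D.index_sylow P]; exact D.coprime_q
  obtain ⟨K, hK⟩ := Subgroup.exists_right_complement'_of_coprime hcop
  have hKcard : Nat.card K = (q - 1) * m := by rw [← D.index_sylow P, hK.symm.index_eq_card]
  let X := {x : G // x ∈ (P : Subgroup G) ∧ x ≠ 1}
  letI : MulAction K X :=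
    { smul := fun k x => ⟨(k : G) * x.1 * (k : G)⁻¹, hn.conj_mem _ x.2.1 _, fun h => x.2.2 (by
        simpa using h)⟩
      one_smul := fun x => Subtype.ext (by show ((1 : K) : G) * x.1 * ((1 : K) : G)⁻¹ = x.1; simp)
      mul_smul := fun k l x => Subtype.ext (by
        show ((k * l : K) : G) * x.1 * ((k * l : K) : G)⁻¹ = k * (l * x.1 * (l : G)⁻¹) * (k : G)⁻¹
        push_cast; group) }
  have h := CfsgLib.Base.card_dvd_of_free (A := K) (X := X) fun k x h => by
    have h1 : (k : G) * x.1 * (k : G)⁻¹ = x.1 := congrArg Subtype.val h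
    have hc : Commute x.1 (k : G) := (mul_inv_eq_iff_eq_mul.1 h1).symm
    have h2 := D.mem_of_commute P x.2.1 x.2.2 hc
    have h3 : (k : G) ∈ (P : Subgroup G) ⊓ K := ⟨h2, k.2⟩
    rw [hK.disjoint.eq_bot, Subgroup.mem_bot] at h3
    exact Subtype.ext h3
  have hX : Nat.card X + 1 = q := by
    haveI := Fintype.ofFinite G
    rw [← D.card_sylow P, Nat.card_eq_fintype_card, Nat.card_eq_fintype_card,
      Fintype.card_subtype, Fintype.card_subtype]
    have : (Finset.univ.filter fun x => x ∈ (P : Subgroup G)) =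
        insert 1 (Finset.univ.filter fun x => x ∈ (P : Subgroup G) ∧ x ≠ 1) := by
      ext x; by_cases hx : x = 1 <;> simp [hx]
    rw [this, Finset.card_insert_of_notMem (by simp)]
  rw [hKcard] at h
  have hq := D.q_ge
  have hm := D.hm
  have hle := Nat.le_of_dvd (by omega) h
  have : (q - 1) * 2 ≤ (q - 1) * m := Nat.mul_le_mul_left _ (by omega)
  omega

theorem card_sylow_eq [hp : Fact p.Prime] : Nat.card (Sylow p G) = q + 1 := by
  haveI := D.finite
  obtain ⟨P⟩ := (inferInstance : Nonempty (Sylow p G))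
  letI : MulAction (P : Subgroup G) {Q : Sylow p G // Q ≠ P} :=
    { smul := fun u Q => ⟨(u : G) • Q.1, fun h => Q.2
        (smul_left_cancel (u : G) (h.trans (smul_self u.2).symm))⟩
      one_smul := fun Q => Subtype.ext (one_smul G Q.1)
      mul_smul := fun u v Q => Subtype.ext (mul_smul (u : G) (v : G) Q.1) }
  have h := CfsgLib.Base.card_dvd_of_free (A := (P : Subgroup G))
    (X := {Q : Sylow p G // Q ≠ P})
    fun u Q h => Subtype.ext (D.eq_one_of_smul_eq Q.2 u.2 (congrArg Subtype.val h))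
  rw [D.card_sylow P] at h
  obtain ⟨k, hk⟩ := h
  have hn : Nat.card (Sylow p G) = 1 + q * k := by
    rw [← hk]
    haveI := Fintype.ofFinite (Sylow p G)
    rw [Nat.card_eq_fintype_card, Nat.card_eq_fintype_card, Fintype.card_subtype_compl,
      Fintype.card_subtype_eq]
    have := Fintype.card_pos (α := Sylow p G)
    omega
  have hk0 : k ≠ 0 := by
    rintro rfl
    refine D.not_normal P ?_
    rw [mul_zero, add_zero] at hn
    haveI : Subsingleton (Sylow p G) := (Nat.card_eq_one_iff_unique.1 hn).1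
    exact P.normal_of_subsingleton
  obtain ⟨w, hw⟩ : Nat.card (Sylow p G) ∣ (q - 1) * m := D.index_sylow P ▸ P.card_dvd_index
  rw [hn] at hw ⊢
  have hq := D.q_ge
  have hm := D.hm
  -- `(1 + q k) (2 w) = q ^ 2 - 1`
  obtain ⟨q', rfl⟩ : ∃ q', q = q' + 1 := ⟨q - 1, by omega⟩
  rw [Nat.add_sub_cancel] at hw
  have e : q' * (q' + 2) = (1 + (q' + 1) * k) * (2 * w) := by
    calc q' * (q' + 2) = 2 * (q' * m) := by
          rw [show q' + 2 = 2 * m by omega]; ring
      _ = _ := by rw [hw]; ring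
  obtain ⟨x, hx⟩ : ∃ x, x = 2 * w := ⟨_, rfl⟩
  rw [← hx] at e
  have hxj : q' + 1 ∣ x + 1 := by
    have h1 : q' + 1 ∣ (x + 1) + (q' + 1) * (k * x) := by
      rw [show (x + 1) + (q' + 1) * (k * x) = (q' + 1) * (q' + 1) by nlinarith]
      exact dvd_mul_right _ _
    exact (Nat.dvd_add_left (dvd_mul_right _ _)).1 h1
  obtain ⟨j, hj⟩ := hxj
  have hj0 : 1 ≤ j := Nat.pos_of_ne_zero (by rintro rfl; omega)
  have hkk : 1 ≤ k := Nat.pos_of_ne_zero hk0
  have e3 : (q' + 1) + k = (q' + 1) * (j * k) + j := by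
    apply Nat.eq_of_mul_eq_mul_left (show 0 < q' + 1 by omega)
    nlinarith
  have hjk : j * k = 1 := by
    by_contra hne
    have h1 : 1 ≤ j * k := Nat.mul_pos hj0 hkk
    have h2 : k ≤ j * k := Nat.le_mul_of_pos_left k hj0
    have h3 : 2 ≤ j * k := by omega
    nlinarith [Nat.mul_le_mul hq h3]
  have : k = 1 := Nat.eq_one_of_mul_eq_one_left hjk
  rw [this]; ring

theorem existsUnique_smul [hp : Fact p.Prime] (P : Sylow p G) (y z : Sylow p G) (hy : y ≠ P)
    (hz : z ≠ P) : ∃! u : ↥(P : Subgroup G), (u : G) • y = z := by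
  haveI := D.finite
  let f : ↥(P : Subgroup G) → {Q : Sylow p G // Q ≠ P} := fun u =>
    ⟨(u : G) • y, fun h => hy (smul_left_cancel (u : G) (h.trans (smul_self u.2).symm))⟩
  have hinj : Function.Injective f := fun u v h => by
    have h1 : (u : G) • y = (v : G) • y := congrArg Subtype.val h
    have h2 : ((v : G)⁻¹ * u) • y = y := by rw [mul_smul, h1, inv_smul_smul]
    exact Subtype.ext (inv_mul_eq_one.1 (D.eq_one_of_smul_eq hy (mul_mem (inv_mem v.2) u.2) h2)).symm
  have hcard : Nat.card ↥(P : Subgroup G) = Nat.card {Q : Sylow p G // Q ≠ P} := by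
    haveI := Fintype.ofFinite (Sylow p G)
    rw [D.card_sylow P, Nat.card_eq_fintype_card, Fintype.card_subtype_compl,
      Fintype.card_subtype_eq, ← Nat.card_eq_fintype_card, D.card_sylow_eq]
    omega
  obtain ⟨u, hu⟩ := ((Nat.bijective_iff_injective_and_card f).2 ⟨hinj, hcard⟩).2 ⟨z, hz⟩
  exact ⟨u, congrArg Subtype.val hu, fun v hv => hinj (Subtype.ext
    (hv.trans (congrArg Subtype.val hu).symm))⟩

theorem eq_one_of_three [hp : Fact p.Prime] {g : G} {A B C : Sylow p G} (hAB : A ≠ B) (hBC : B ≠ C)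
    (hAC : A ≠ C) (hA : g • A = A) (hB : g • B = B) (hC : g • C = C) : g = 1 := by
  haveI := D.finite
  obtain ⟨u, hu, -⟩ := D.existsUnique_smul A B C hAB.symm hAC.symm
  have hgu : g * (u : G) * g⁻¹ ∈ (A : Subgroup G) :=
    (Subgroup.mem_normalizer_iff.1 (Sylow.smul_eq_iff_mem_normalizer.1 hA) u).1 u.2
  have h1 : (g * (u : G) * g⁻¹) • B = C := by
    rw [mul_smul, mul_smul, inv_smul_eq_iff.2 hB.symm, hu, hC]
  have hcomm : g * (u : G) * g⁻¹ = u := by
    have := (D.existsUnique_smul A B C hAB.symm hAC.symm).unique (y₁ := ⟨_, hgu⟩) (y₂ := u) h1 hu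
    exact congrArg Subtype.val this
  have hu1 : (u : G) ≠ 1 := fun h => hBC (by rw [← hu, h, one_smul])
  exact D.eq_one_of_smul_eq hAB.symm
    (D.mem_of_commute A u.2 hu1 (mul_inv_eq_iff_eq_mul.1 hcomm).symm) hB

theorem faithful [hp : Fact p.Prime] : FaithfulSMul G (Sylow p G) := by
  haveI := D.finite
  haveI := Fintype.ofFinite (Sylow p G)
  have h3 : 2 < Fintype.card (Sylow p G) := by
    rw [← Nat.card_eq_fintype_card, D.card_sylow_eq]; have := D.q_ge; omega
  obtain ⟨A, B, C, hAB, hAC, hBC⟩ := Fintype.two_lt_card_iff.1 h3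
  refine ⟨fun {g h} hgh => ?_⟩
  have key : ∀ Q : Sylow p G, (h⁻¹ * g) • Q = Q := fun Q => by rw [mul_smul, hgh, inv_smul_smul]
  exact (inv_mul_eq_one.1 (D.eq_one_of_three hAB hBC hAC (key A) (key B) (key C))).symm

theorem two_pretransitive [hp : Fact p.Prime] : IsMultiplyPretransitive G (Sylow p G) 2 := by
  haveI := D.finite
  rw [is_two_pretransitive_iff]
  intro A B C E hAB hCE
  obtain ⟨g, hg⟩ := exists_smul_eq G A C
  have hgB : g • B ≠ C := fun h => hAB (smul_left_cancel g (hg.trans h.symm))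
  obtain ⟨u, hu, -⟩ := D.existsUnique_smul C (g • B) E hgB (Ne.symm hCE)
  exact ⟨(u : G) * g, by rw [mul_smul, hg, smul_self u.2], by rw [mul_smul, hu]⟩

theorem card_stabilizer_two [hp : Fact p.Prime] {A B : Sylow p G} (hAB : A ≠ B) :
    2 * Nat.card (CfsgLib.Perm.ZassG.pairStab G A B) + 1 = q := by
  haveI := D.finite
  haveI := D.two_pretransitive
  have hq := D.q_ge
  have hm := D.hm
  have h1 : Nat.card (stabilizer G A) * (q + 1) = q * ((q - 1) * m) := by
    rw [← D.card_sylow_eq, ← D.card, Sylow.stabilizer_eq_normalizer,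
      A.card_eq_index_normalizer]
    exact Subgroup.card_mul_index _
  have h2 : 2 * Nat.card (stabilizer G A) = q * (q - 1) := by
    refine Nat.eq_of_mul_eq_mul_right (show 0 < q + 1 by omega) ?_
    calc 2 * Nat.card (stabilizer G A) * (q + 1) = 2 * (q * ((q - 1) * m)) := by rw [← h1]; ring
      _ = q * (q - 1) * (q + 1) := by rw [← hm]; ring
  have h3 : Nat.card (orbit (stabilizer G A) B) * Nat.card (stabilizer (stabilizer G A) B) =
      Nat.card (stabilizer G A) := by
    rw [← Nat.card_prod]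
    exact Nat.card_congr (orbitProdStabilizerEquivGroup (stabilizer G A) B)
  have h4 : orbit (stabilizer G A) B = {Q : Sylow p G | Q ≠ A} := by
    ext Q
    constructor
    · rintro ⟨g, rfl⟩ h
      exact hAB (smul_left_cancel (g : G) (g.2.trans h.symm))
    · intro hQ
      obtain ⟨u, hu, -⟩ := D.existsUnique_smul A B Q hAB.symm hQ
      exact ⟨⟨(u : G), smul_self u.2⟩, hu⟩
  have h5 : Nat.card (orbit (stabilizer G A) B) = q := by
    haveI := Fintype.ofFinite (Sylow p G)
    rw [h4, Set.coe_ofPred, Nat.card_eq_fintype_card, Fintype.card_subtype_compl,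
      Fintype.card_subtype_eq, ← Nat.card_eq_fintype_card, D.card_sylow_eq]
    omega
  have h6 : Nat.card (stabilizer (stabilizer G A) B) =
      Nat.card (CfsgLib.Perm.ZassG.pairStab G A B) :=
    Nat.card_congr
      { toFun := fun g => ⟨(g.1 : G), ⟨g.1.2, g.2⟩⟩
        invFun := fun g => ⟨⟨g.1, g.2.1⟩, g.2.2⟩
        left_inv := fun g => rfl
        right_inv := fun g => rfl }
  rw [h5, h6] at h3
  have h7 : 2 * Nat.card (CfsgLib.Perm.ZassG.pairStab G A B) = q - 1 :=
    Nat.eq_of_mul_eq_mul_left (show 0 < q by omega) (by rw [← h2, ← h3]; ring)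
  omega

theorem no_regular_normal [hp : Fact p.Prime] (N : Subgroup G) (hN : N.Normal)
    (ht : IsPretransitive N (Sylow p G)) : ∃ A : Sylow p G, stabilizer N A ≠ ⊥ := by
  haveI := D.finite
  by_contra! hreg
  obtain ⟨P⟩ := (inferInstance : Nonempty (Sylow p G))
  have hNcard : Nat.card N = q + 1 := by
    rw [← D.card_sylow_eq]
    refine Nat.card_congr (Equiv.ofBijective (fun n : N => n • P) ⟨fun n m h => ?_, fun Q => ?_⟩)
    · have h1 : m⁻¹ * n ∈ stabilizer N P := by
        rw [mem_stabilizer_iff, mul_smul]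
        exact inv_smul_eq_iff.2 h
      rw [hreg P, Subgroup.mem_bot] at h1
      exact (inv_mul_eq_one.1 h1).symm
    · exact exists_smul_eq N P Q
  have hq := D.q_ge
  have hm := D.hm
  have h8 := D.q_mod
  have hpq1 : ¬ p ∣ q + 1 := fun h =>
    hp.out.not_dvd_one ((Nat.dvd_add_right D.p_dvd_q).1 h)
  have htrans : ∀ x y : G, x ∈ N → x ≠ 1 → y ∈ N → y ≠ 1 →
      ∃ u ∈ (P : Subgroup G), u * x * u⁻¹ = y := by
    intro x y hx hx1 hy hy1
    let f : ↥(P : Subgroup G) → {m : N // m ≠ 1} := fun u =>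
      ⟨⟨(u : G) * x * (u : G)⁻¹, hN.conj_mem _ hx _⟩, fun h => hx1 (by
        simpa using congrArg Subtype.val h)⟩
    have hinj : Function.Injective f := fun u v h => by
      have h1 : (u : G) * x * (u : G)⁻¹ = v * x * (v : G)⁻¹ :=
        congrArg (fun m : {m : N // m ≠ 1} => ((m : N) : G)) h
      have hc : Commute ((v : G)⁻¹ * u) x := by
        show (v : G)⁻¹ * u * x = x * ((v : G)⁻¹ * u)
        calc (v : G)⁻¹ * u * x = (v : G)⁻¹ * (u * x * (u : G)⁻¹) * u := by group
          _ = (v : G)⁻¹ * (v * x * (v : G)⁻¹) * u := by rw [h1]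
          _ = x * ((v : G)⁻¹ * u) := by group
      by_contra hne
      have hw1 : (v : G)⁻¹ * u ≠ 1 := fun h => hne (Subtype.ext (inv_mul_eq_one.1 h).symm)
      have hxP := D.mem_of_commute P (mul_mem (inv_mem v.2) u.2) hw1 hc
      obtain ⟨i, hi⟩ := IsPGroup.iff_orderOf.1 P.isPGroup' ⟨x, hxP⟩
      rw [Subgroup.orderOf_mk] at hi
      have : orderOf x ∣ q + 1 := by
        rw [← hNcard, ← Subgroup.orderOf_mk x hx]
        exact orderOf_dvd_natCard _
      rw [hi] at this
      have hi0 : i ≠ 0 := fun h0 => hx1 (orderOf_eq_one_iff.1 (by rw [hi, h0, pow_zero]))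
      exact hpq1 ((dvd_pow_self p hi0).trans this)
    have hcard : Nat.card (P : Subgroup G) = Nat.card {m : N // m ≠ 1} := by
      haveI := Fintype.ofFinite N
      rw [D.card_sylow P, Nat.card_eq_fintype_card, Fintype.card_subtype_compl,
        Fintype.card_subtype_eq, ← Nat.card_eq_fintype_card, hNcard]
      omega
    obtain ⟨u, hu⟩ := ((Nat.bijective_iff_injective_and_card f).2 ⟨hinj, hcard⟩).2
      ⟨⟨y, hy⟩, fun h => hy1 (congrArg Subtype.val h)⟩
    exact ⟨u, u.2, congrArg (fun m : {m : N // m ≠ 1} => ((m : N) : G)) hu⟩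
  haveI := Fact.mk Nat.prime_two
  obtain ⟨n0, hn0⟩ := exists_prime_orderOf_dvd_card' (G := N) 2 (hNcard ▸ ⟨m, hm.symm⟩)
  rw [← Subgroup.orderOf_coe] at hn0
  have hn01 : (n0 : G) ≠ 1 := fun h => by rw [h, orderOf_one] at hn0; omega
  obtain ⟨r, hr, hrd⟩ := Nat.exists_prime_and_dvd (show m ≠ 1 by omega)
  haveI := Fact.mk hr
  obtain ⟨n1, hn1⟩ := exists_prime_orderOf_dvd_card' (G := N) r
    (hNcard ▸ hrd.trans ⟨2, by omega⟩)
  rw [← Subgroup.orderOf_coe] at hn1
  obtain ⟨u, -, hu⟩ := htrans n0 n1 n0.2 hn01 n1.2 fun h => hr.ne_one (by rw [← hn1, h, orderOf_one])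
  rw [← hu, ← MulAut.conj_apply, MulEquiv.orderOf_eq, hn0] at hn1
  subst hn1
  omega

/-- The conjugation action on the Sylow `p`-subgroups is that of a Zassenhaus group. -/
theorem isZassenhausGroup [hp : Fact p.Prime] : Cfsg.IsZassenhausGroup G (Sylow p G) := by
  haveI := D.finite
  refine ⟨D.faithful, D.two_pretransitive, fun g A B C hAB hBC hAC => D.eq_one_of_three hAB hBC hAC,
    ?_, fun N hN ht => D.no_regular_normal N hN ht⟩
  haveI := Fintype.ofFinite (Sylow p G)
  have h2 : 1 < Fintype.card (Sylow p G) := by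
    rw [← Nat.card_eq_fintype_card, D.card_sylow_eq]; have := D.q_ge; omega
  obtain ⟨A, B, hAB⟩ := Fintype.exists_pair_of_one_lt_card h2
  haveI : Nontrivial (CfsgLib.Perm.ZassG.pairStab G A B) := by
    rw [← Finite.one_lt_card_iff_nontrivial]
    have := D.card_stabilizer_two hAB; have := D.q_ge; omega
  obtain ⟨g, hg⟩ := exists_ne (1 : CfsgLib.Perm.ZassG.pairStab G A B)
  exact ⟨g, fun h => hg (Subtype.ext h), A, B, hAB, g.2.1, g.2.2⟩

/-- The recognition theorem. -/
theorem nonempty_mulEquiv {F : Type*} [Field F] [Finite F] (hF : Nat.card F = q) :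
    Nonempty (G ≃* Matrix.ProjectiveSpecialLinearGroup (Fin 2) F) := by
  haveI := D.finite
  haveI := Fact.mk D.hp
  haveI := Fintype.ofFinite F
  haveI := Fintype.ofFinite (Sylow p G)
  have h2 : 1 < Fintype.card (Sylow p G) := by
    rw [← Nat.card_eq_fintype_card, D.card_sylow_eq]; have := D.q_ge; omega
  obtain ⟨A, B, hAB⟩ := Fintype.exists_pair_of_one_lt_card h2
  have hF' : CfsgLib.Perm.ZassG.IsKernel A (A : Subgroup G) :=
    ⟨fun u hu => smul_self hu,
      fun g hg u hu => (Subgroup.mem_normalizer_iff.1 (Sylow.smul_eq_iff_mem_normalizer.1 hg) u).1 hu,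
      fun y z => D.existsUnique_smul A y z⟩
  obtain ⟨K, hK, hK', -, hcard, ⟨e⟩⟩ := CfsgLib.Perm.ZassG.exists_psl D.isZassenhausGroup hAB hF'
    (by rw [D.card_sylow A]; exact (D.card_stabilizer_two hAB).symm)
  rw [D.card_sylow A, Nat.card_eq_fintype_card] at hcard
  let ψ : K ≃+* F := FiniteField.ringEquivOfCardEq
    (by rw [← Nat.card_eq_fintype_card (α := F), hF]; omega)
  obtain ⟨e2⟩ := CfsgLib.PSL2.nonempty_psl_congr (n := Fin 2) ψ
  exact ⟨e.trans e2⟩

end Deg

end CfsgLib.CharsMore.DegreesPSL
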