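import Cfsg.Agent.Lib.CharsMore.DegreesPSL.Degrees
import Cfsg.Agent.Lib.CharsMore.DegreesPSL.Zass
import Cfsg.Agent.Lib.Small.Order60
import Cfsg.Agent.Lib.Small.Order360

/-!
# A group with the character degrees of `PSL₂(p²)` is `PSL₂(p²)`
-/

set_option autoImplicit false
set_option linter.style.haveILetI false
set_option linter.unusedSectionVars false

open scoped Classical

namespace CfsgLib.CharsMore.DegreesPSL

open Cfsg CfsgLib CfsgLib.Chars CfsgLib.CharsMore.TwoByTwo CfsgLib.SLTwoDegrees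

universe u v

/-- The number of irreducible characters of degree `d`. -/
noncomputable def degCount (G : Type u) [Group G] (d : ℕ) : ℕ :=
  Nat.card {χ : IrrCharacter G // charDegree (χ : G → ℂ) = d}

theorem card_deg_eq {G : Type u} [Group G] (d : ℕ) :
    Nat.card {χ : IrrCharacter G // (χ : G → ℂ) 1 = (d : ℂ)} = degCount G d :=
  Nat.card_congr (Equiv.subtypeEquivRight fun χ => by rw [CharApps.deg_eq, Nat.cast_inj])

/-- Equal degree counts give a degree preserving bijection. -/
theorem exists_equiv {G : Type u} [Group G] [Finite G] {H : Type v} [Group H] [Finite H]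
    (h : ∀ d, degCount G d = degCount H d) : ∃ e : IrrCharacter G ≃ IrrCharacter H,
      ∀ χ, charDegree (e χ : H → ℂ) = charDegree (χ : G → ℂ) := by
  have he : ∀ d, {χ : IrrCharacter G // charDegree (χ : G → ℂ) = d} ≃
      {χ : IrrCharacter H // charDegree (χ : H → ℂ) = d} := fun d =>
    (Finite.card_eq.1 (h d)).some
  exact ⟨Equiv.ofFiberEquiv he, fun χ => Equiv.ofFiberEquiv_map he χ⟩

theorem sum_sq {G : Type u} [Group G] [Finite G] [Fintype (IrrCharacter G)] :
    ∑ χ : IrrCharacter G, charDegree (χ : G → ℂ) ^ 2 = Nat.card G := by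
  have h := Chars.sum_degree_sq (G := G)
  rw [Finset.sum_congr rfl fun χ _ => by rw [CharApps.deg_eq]] at h
  exact_mod_cast h

theorem card_eq_of_counts {G : Type u} [Group G] [Finite G] {H : Type v} [Group H] [Finite H]
    (h : ∀ d, degCount G d = degCount H d) : Nat.card G = Nat.card H := by
  obtain ⟨e, he⟩ := exists_equiv h
  letI := Chars.irrFintype G
  letI := Chars.irrFintype H
  rw [← sum_sq (G := G), ← sum_sq (G := H)]
  exact Fintype.sum_equiv e _ _ fun χ => by rw [he]

theorem lin_unique {G : Type u} [Group G] [Finite G] (h1 : degCount G 1 = 1)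
    (χ : IrrCharacter G) (hχ : charDegree (χ : G → ℂ) = 1) : χ = principal G := by
  haveI := (Nat.card_eq_one_iff_unique.1 h1).1
  have hp : charDegree (principal G : G → ℂ) = 1 := by
    have := CharApps.deg_eq (principal G)
    rw [principal_apply] at this
    exact_mod_cast this.symm
  exact congrArg Subtype.val (Subsingleton.elim (⟨χ, hχ⟩ : {χ : IrrCharacter G //
    charDegree (χ : G → ℂ) = 1}) ⟨principal G, hp⟩)

/-- The irreducible characters of a quotient have degrees among those of the group. -/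
theorem deg_quotient {G : Type u} [Group G] [Finite G] (N : Subgroup G) [N.Normal]
    (ψ : IrrCharacter (G ⧸ N)) :
    charDegree ((quotientIrrEquiv N ψ).1 : G → ℂ) = charDegree (ψ : G ⧸ N → ℂ) :=
  charDegree_congr rfl

theorem deg_sq_le {G : Type u} [Group G] [Finite G] (χ : IrrCharacter G) :
    charDegree (χ : G → ℂ) ^ 2 ≤ Nat.card G := by
  letI := Chars.irrFintype G
  rw [← sum_sq (G := G)]
  exact Finset.single_le_sum (f := fun ψ : IrrCharacter G => charDegree (ψ : G → ℂ) ^ 2)
    (fun _ _ => Nat.zero_le _) (Finset.mem_univ χ)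

theorem deg_dvd {G : Type u} [Group G] [Finite G] (χ : IrrCharacter G) :
    charDegree (χ : G → ℂ) ∣ Nat.card G := by
  obtain ⟨n, -, hn, hd⟩ := Chars.irr_degree_dvd_card χ.2
  rw [CharApps.deg_eq] at hn
  rwa [show charDegree (χ : G → ℂ) = n by exact_mod_cast hn]

/-- A criterion for simplicity by the degrees. -/
theorem isSimple_of_degrees {G : Type u} [Group G] [Finite G] {g : ℕ} (hg : Nat.card G = g)
    (hg1 : 1 < g) (h1 : degCount G 1 = 1) (S : Finset ℕ)
    (hS : ∀ χ : IrrCharacter G, charDegree (χ : G → ℂ) = 1 ∨ charDegree (χ : G → ℂ) ∈ S)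
    (harith : ∀ n ∈ g.divisors, n ≠ 1 → n ≠ g →
      ∀ f : ℕ → ℕ, (∀ d ∈ S, f d ≠ 0 → d ∣ n) → 1 + ∑ d ∈ S, f d * d ^ 2 ≠ n)
    (hS1 : 1 ∉ S) : IsSimpleGroup G := by
  have hnt : Nontrivial G := Finite.one_lt_card_iff_nontrivial.1 (by omega)
  refine ⟨fun N hN => ?_⟩
  by_contra hcon
  rw [not_or] at hcon
  have hidx : N.index ∣ g := hg ▸ N.index_dvd_card
  have hn1 : N.index ≠ 1 := fun e => hcon.2 (Subgroup.index_eq_one.1 e)
  have hng : N.index ≠ g := fun e => hcon.1 (Subgroup.card_eq_one.1 (by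
    have := N.card_mul_index
    rw [e, hg] at this
    exact (Nat.mul_eq_right (by omega)).1 this))
  letI := Chars.irrFintype G
  letI := Chars.irrFintype (G ⧸ N)
  have hsum : ∑ ψ : IrrCharacter (G ⧸ N), charDegree (ψ : G ⧸ N → ℂ) ^ 2 = N.index :=
    sum_sq (G := G ⧸ N)
  let deg : IrrCharacter (G ⧸ N) → ℕ := fun ψ => charDegree (ψ : G ⧸ N → ℂ)
  have hmem : ∀ ψ, deg ψ = 1 ∨ deg ψ ∈ S := fun ψ => by
    rw [show deg ψ = _ from (deg_quotient N ψ).symm]
    exact hS _
  have hone : (Finset.univ.filter fun ψ => deg ψ = 1).card = 1 := by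
    refine Finset.card_eq_one.2 ⟨principal (G ⧸ N), Finset.eq_singleton_iff_unique_mem.2 ⟨?_, ?_⟩⟩
    · simp only [Finset.mem_filter, Finset.mem_univ, true_and, deg]
      have := CharApps.deg_eq (principal (G ⧸ N))
      rw [principal_apply] at this
      exact_mod_cast this.symm
    · intro ψ hψ
      simp only [Finset.mem_filter, Finset.mem_univ, true_and] at hψ
      have e1 := lin_unique h1 (quotientIrrEquiv N ψ).1 ((deg_quotient N ψ).trans hψ)
      have hp : charDegree (principal (G ⧸ N) : G ⧸ N → ℂ) = 1 := by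
        have := CharApps.deg_eq (principal (G ⧸ N))
        rw [principal_apply] at this
        exact_mod_cast this.symm
      have e2 := lin_unique h1 (quotientIrrEquiv N (principal (G ⧸ N))).1
        ((deg_quotient N _).trans hp)
      exact (quotientIrrEquiv N).injective (Subtype.ext (e1.trans e2.symm))
  have hsplit : 1 + ∑ d ∈ S, (Finset.univ.filter fun ψ => deg ψ = d).card * d ^ 2 = N.index := by
    rw [← hsum, ← Finset.sum_fiberwise_of_maps_to (g := deg) (t := insert 1 S)
      (fun ψ _ => by rcases hmem ψ with h | h <;> simp [h]), Finset.sum_insert hS1]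
    refine congrArg₂ (· + ·) ?_ (Finset.sum_congr rfl fun d _ => ?_)
    · rw [Finset.sum_congr rfl (g := fun _ => 1) (fun ψ hψ => by
        rw [show charDegree (ψ : G ⧸ N → ℂ) = 1 from (Finset.mem_filter.1 hψ).2, one_pow])]
      simp [hone]
    · rw [Finset.sum_congr rfl (g := fun _ => d ^ 2) (fun ψ hψ => by
        rw [show charDegree (ψ : G ⧸ N → ℂ) = d from (Finset.mem_filter.1 hψ).2]),
        Finset.sum_const, smul_eq_mul]
  refine harith N.index (Nat.mem_divisors.2 ⟨hidx, by omega⟩) hn1 hng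
    (fun d => (Finset.univ.filter fun ψ => deg ψ = d).card) (fun d _ hne => ?_) ?_
  · obtain ⟨ψ, hψ⟩ := Finset.card_ne_zero.1 hne
    rw [← (Finset.mem_filter.1 hψ).2]
    exact deg_dvd ψ
  · exact hsplit

theorem isSimple_sixty {G : Type u} [Group G] [Finite G] (hg : Nat.card G = 60)
    (h1 : degCount G 1 = 1) (hS : ∀ χ : IrrCharacter G,
      charDegree (χ : G → ℂ) = 1 ∨ charDegree (χ : G → ℂ) ∈ ({3, 4, 5} : Finset ℕ)) :
    IsSimpleGroup G := by
  refine isSimple_of_degrees hg (by norm_num) h1 _ hS ?_ (by decide)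
  intro n hn hn1 hng f hdvd hsum
  have a3 := hdvd 3 (by decide); have a4 := hdvd 4 (by decide); have a5 := hdvd 5 (by decide)
  simp [Finset.sum_insert] at hsum
  rw [show Nat.divisors 60 = {1, 2, 3, 4, 5, 6, 10, 12, 15, 20, 30, 60} by decide] at hn
  simp only [Finset.mem_insert, Finset.mem_singleton] at hn
  rcases hn with rfl | rfl | rfl | rfl | rfl | rfl | rfl | rfl | rfl | rfl | rfl | rfl <;> omega

theorem isSimple_360 {G : Type u} [Group G] [Finite G] (hg : Nat.card G = 360)
    (h1 : degCount G 1 = 1) (hS : ∀ χ : IrrCharacter G,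
      charDegree (χ : G → ℂ) = 1 ∨ charDegree (χ : G → ℂ) ∈ ({5, 8, 9, 10, 15} : Finset ℕ)) :
    IsSimpleGroup G := by
  refine isSimple_of_degrees hg (by norm_num) h1 _ hS ?_ (by decide)
  intro n hn hn1 hng f hdvd hsum
  have a5 := hdvd 5 (by decide); have a8 := hdvd 8 (by decide); have a9 := hdvd 9 (by decide)
  have a10 := hdvd 10 (by decide); have a15 := hdvd 15 (by decide)
  simp [Finset.sum_insert] at hsum
  rw [show Nat.divisors 360 = {1, 2, 3, 4, 5, 6, 8, 9, 10, 12, 15, 18, 20, 24, 30, 36, 40, 45, 60,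
    72, 90, 120, 180, 360} by decide +kernel] at hn
  simp only [Finset.mem_insert, Finset.mem_singleton] at hn
  rcases hn with rfl | rfl | rfl | rfl | rfl | rfl | rfl | rfl | rfl | rfl | rfl | rfl | rfl | rfl |
    rfl | rfl | rfl | rfl | rfl | rfl | rfl | rfl | rfl | rfl <;> omega

open _root_.Classical in
/-- The degree data of `PSL₂(4)`. -/
theorem psl_four {F : Type u} [Field F] [Fintype F] (hF : Fintype.card F = 4) :
    (∀ ψ : IrrCharacter (Matrix.ProjectiveSpecialLinearGroup (Fin 2) F),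
      charDegree (ψ : Matrix.ProjectiveSpecialLinearGroup (Fin 2) F → ℂ) = 1 ∨
      charDegree (ψ : Matrix.ProjectiveSpecialLinearGroup (Fin 2) F → ℂ) ∈ ({3, 4, 5} : Finset ℕ)) ∧
    degCount (Matrix.ProjectiveSpecialLinearGroup (Fin 2) F) 1 = 1 := by
  haveI : CharP F 2 := by
    obtain ⟨c, hc⟩ := CharP.exists F
    haveI := hc
    obtain ⟨n, hpr, hn⟩ := FiniteField.card F c
    have : c = 2 := by
      have h1 : c ∣ 2 ^ 2 := by rw [show (2 : ℕ) ^ 2 = c ^ (n : ℕ) by rw [← hn, hF]; norm_num]; exact dvd_pow_self c n.pos.ne'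
      exact (Nat.prime_dvd_prime_iff_eq hpr Nat.prime_two).1 (hpr.dvd_of_dvd_pow h1)
    exact this ▸ hc
  set E := Chars.quotientIrrEquiv (Subgroup.center (Matrix.SpecialLinearGroup (Fin 2) F)) with hE
  have hd : ∀ ψ, charDegree ((E ψ).1 : Matrix.SpecialLinearGroup (Fin 2) F → ℂ) =
      charDegree (ψ : Matrix.ProjectiveSpecialLinearGroup (Fin 2) F → ℂ) := deg_inflated
  refine ⟨fun ψ => ?_, Nat.card_eq_one_iff_unique.2 ⟨⟨fun a b => Subtype.ext (E.injective
    (Subtype.ext ?_))⟩, ⟨⟨principal _, ?_⟩⟩⟩⟩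
  · rw [← hd ψ]
    rcases degree_cases_even (E ψ).1 with h | h | h | h <;> rw [h] <;> simp [hF]
  · have key : ∀ a : {ψ : IrrCharacter (Matrix.ProjectiveSpecialLinearGroup (Fin 2) F) //
        charDegree (ψ : Matrix.ProjectiveSpecialLinearGroup (Fin 2) F → ℂ) = 1},
        (E a.1).1 = principal _ := fun a => by
      have hx := (hd _).trans a.2
      rcases sl_cases_even (E a.1).1 with h | h | h | h
      · exact h
      · rw [h, deg_stIrrSL] at hx; omega
      · rw [deg_pSetSL h] at hx; omega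
      · rw [deg_cSetSL_even h] at hx; omega
    rw [key a, key b]
  · have := CharApps.deg_eq (principal (Matrix.ProjectiveSpecialLinearGroup (Fin 2) F))
    rw [principal_apply] at this
    exact_mod_cast this.symm

/-- A group with the character degrees, with multiplicities, of `PSL₂(p²)` is `PSL₂(p²)`. -/
theorem recognition {F : Type u} [Field F] [Fintype F] (p : ℕ) (hp : p.Prime)
    (hF : Fintype.card F = p ^ 2) {G : Type v} [Group G] [Finite G]
    (h : ∀ d : ℕ, degCount G d = degCount (Matrix.ProjectiveSpecialLinearGroup (Fin 2) F) d) :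
    Nonempty (G ≃* Matrix.ProjectiveSpecialLinearGroup (Fin 2) F) := by
  have hG := card_eq_of_counts h
  obtain ⟨e, he⟩ := exists_equiv h
  have hcard := CfsgLib.Classical.card_PSL_two_mul (F := F)
  rw [← hG, Nat.card_eq_fintype_card (α := F), hF] at hcard
  rcases hp.eq_two_or_odd with rfl | hodd
  · obtain ⟨hS, h1⟩ := psl_four (F := F) (by rw [hF]; norm_num)
    norm_num at hcard
    have hG' := hG.symm.trans hcard
    haveI := isSimple_sixty hcard (h 1 ▸ h1) fun χ => by rw [← he χ]; exact hS (e χ)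
    haveI := isSimple_sixty hG' h1 hS
    obtain ⟨e1⟩ := CfsgLib.Small.equiv_alternating_five (G := G) hcard
    obtain ⟨e2⟩ := CfsgLib.Small.equiv_alternating_five
      (G := Matrix.ProjectiveSpecialLinearGroup (Fin 2) F) hG'
    exact ⟨e1.trans e2.symm⟩
  have hp3 : 3 ≤ p := by have := hp.two_le; omega
  have hq9 : 9 ≤ p ^ 2 := by nlinarith
  have hpmod : p ^ 2 % 4 = 1 := by
    have hp4 : p % 4 = 1 ∨ p % 4 = 3 := by omega
    rw [Nat.pow_mod]
    rcases hp4 with h' | h' <;> rw [h'] <;> norm_num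
  obtain ⟨hshape, h1, hqc⟩ := psl_degrees (F := F) (Nat.odd_iff.2 (by rw [hF]; omega))
    (by rw [hF]; omega) (by rw [hF]; exact hpmod)
  rw [hF] at hshape hqc
  have hgcd : Nat.gcd 2 (p ^ 2 - 1) = 2 := Nat.gcd_eq_left (by omega)
  rw [hgcd] at hcard
  obtain ⟨q, hq⟩ : ∃ q, q = p ^ 2 := ⟨_, rfl⟩
  obtain ⟨m, hm⟩ : ∃ m, 2 * m = q + 1 := ⟨(q + 1) / 2, by omega⟩
  rw [← hq] at hcard hshape hqc hpmod hq9
  rw [show (q + 1) / 2 = m by omega] at hshape
  have hcard' : Nat.card G = q * ((q - 1) * m) := by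
    refine Nat.eq_of_mul_eq_mul_left (show 0 < 2 by omega) ?_
    rw [hcard, show q ^ 2 - 1 = (q + 1) * (q - 1) by rw [← Nat.sq_sub_sq, one_pow], ← hm]
    ring
  have hqc' : degCount G q = 1 := (h q).trans hqc
  obtain ⟨⟨χ₀, hχ₀⟩⟩ := (Nat.card_eq_one_iff_unique.1 hqc').2
  have h1' : degCount G 1 = 1 := (h 1).trans h1
  have hshapeG : ∀ χ : IrrCharacter G, charDegree (χ : G → ℂ) = 1 ∨ charDegree (χ : G → ℂ) = q ∨
      charDegree (χ : G → ℂ) = q - 1 ∨ m ∣ charDegree (χ : G → ℂ) := fun χ => by
    rw [← he χ]; exact hshape (e χ)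
  by_cases hp5 : 5 ≤ p
  · have D : Deg G p q m χ₀ :=
      { hp := hp
        p5 := hp5
        hq := hq
        hm := hm
        card := hcard'
        deg0 := hχ₀
        uniq := fun χ hχ => by
          haveI := (Nat.card_eq_one_iff_unique.1 hqc').1
          exact congrArg Subtype.val (Subsingleton.elim (⟨χ, hχ⟩ :
            {χ : IrrCharacter G // charDegree (χ : G → ℂ) = q}) ⟨χ₀, hχ₀⟩)
        lin := lin_unique h1'
        shape := hshapeG }
    exact D.nonempty_mulEquiv (by rw [Nat.card_eq_fintype_card, hF, hq])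
  · have hp3' : p = 3 := by
      by_contra hne
      have : p = 4 := by omega
      subst this
      norm_num at hp
    subst hp3'
    norm_num at hq
    subst hq
    obtain rfl : m = 5 := by omega
    norm_num at hcard'
    have key : ∀ {H : Type v} [Group H] [Finite H], Nat.card H = 360 →
        (∀ χ : IrrCharacter H, charDegree (χ : H → ℂ) = 1 ∨ charDegree (χ : H → ℂ) = 9 ∨
          charDegree (χ : H → ℂ) = 8 ∨ 5 ∣ charDegree (χ : H → ℂ)) →
        ∀ χ : IrrCharacter H, charDegree (χ : H → ℂ) = 1 ∨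
          charDegree (χ : H → ℂ) ∈ ({5, 8, 9, 10, 15} : Finset ℕ) := by
      intro H _ _ hH hsh χ
      rcases hsh χ with hd | hd | hd | ⟨c, hc⟩
      · exact Or.inl hd
      · simp [hd]
      · simp [hd]
      · have h2 := deg_sq_le χ
        have hpos := CharApps.deg_pos χ
        rw [hH, hc] at h2
        rw [hc] at hpos
        have hc4 : c < 4 := by nlinarith
        right
        rw [hc]
        interval_cases c <;> simp at hpos ⊢
    haveI := isSimple_360 hcard' h1' (key hcard' hshapeG)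
    have hP : Nat.card (Matrix.ProjectiveSpecialLinearGroup (Fin 2) F) = 360 := hG ▸ hcard'
    haveI := isSimple_360 hP h1 (fun χ => by
      rcases hshape χ with hd | hd | hd | ⟨c, hc⟩
      · exact Or.inl hd
      · simp [hd]
      · simp [hd]
      · have h2 := deg_sq_le χ
        have hpos := CharApps.deg_pos χ
        rw [hP, hc] at h2
        rw [hc] at hpos
        have hc4 : c < 4 := by nlinarith
        right
        rw [hc]
        interval_cases c <;> simp at hpos ⊢)
    obtain ⟨e1⟩ := CfsgLib.Small.equiv_alternating_six (G := G) hcard'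
    obtain ⟨e2⟩ := CfsgLib.Small.equiv_alternating_six
      (G := Matrix.ProjectiveSpecialLinearGroup (Fin 2) F) hP
    exact ⟨e1.trans e2.symm⟩

end CfsgLib.CharsMore.DegreesPSL
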